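import Mathlib
import Cfsg.Agent.PLocal.AmbSyl

/-! Transitive groups with a normal subgroup outside of which every element fixes exactly one point
(for S3550, S5732). -/

set_option autoImplicit false
set_option linter.unusedSectionVars false

namespace Cfsg.Agent.DrG

open Subgroup Cfsg.Agent.PLocal.Amb

variable {G : Type*} [Group G] [Finite G]

/-- `D` is a transitive normal subgroup of large index, elements outside `D` fix exactly one point -/
structure Ex (Ω : Type*) [MulAction G Ω] (D : Subgroup G) : Prop where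
  normal : D.Normal
  one : ∀ g, g ∉ D → ∃! ω : Ω, g • ω = ω
  trans : ∀ a b : Ω, ∃ d ∈ D, d • a = b
  faith : ∀ g : G, (∀ ω : Ω, g • ω = ω) → g = 1
  ne : D ≠ ⊤
  two : 2 ≤ Nat.card Ω
  small : Nat.card Ω < (D.index + 1) ^ 2

/-- `V ≤ D` is an abelian regular Hall subgroup whose normalizer in `G_α` covers `G / D` -/
structure Reg {Ω : Type*} [MulAction G Ω] (D V : Subgroup G) (α : Ω) : Prop where
  le : V ≤ D
  comm : ∀ a ∈ V, ∀ b ∈ V, a * b = b * a
  tr : ∀ ω : Ω, ∃ v ∈ V, v • α = ω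
  free : ∀ v ∈ V, v • α = α → v = 1
  pg : ∃ r : ℕ, r.Prime ∧ IsPGroup r V
  cop : (Nat.card V).Coprime (Nat.card (MulAction.stabilizer G α))
  cov : 𝐍[V] ⊓ MulAction.stabilizer G α ⊔ D = ⊤

theorem relIndex_of_cov {N D : Subgroup G} [D.Normal] (h : N ⊔ D = ⊤) : D.relIndex N = D.index := by
  rw [← relIndex_sup_right, h, relIndex_top_right]

/-- If `N` covers `G / D` and acts on `U` with all stabilizers inside `D`, then `[G : D] ∣ |U|`. -/
theorem dvd_ncard {N D : Subgroup G} [D.Normal] (h : N ⊔ D = ⊤) {T : Type*} [Finite T]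
    (act : G → T → T) (h1 : ∀ t, act 1 t = t) (hm : ∀ g k t, act (g * k) t = act g (act k t))
    (U : Set T) (hU : ∀ g ∈ N, ∀ t ∈ U, act g t ∈ U) (hs : ∀ g ∈ N, ∀ t ∈ U, act g t = t → g ∈ D) :
    D.index ∣ U.ncard := by
  classical
  letI : MulAction N U :=
    { smul := fun g t => ⟨act g t, hU g g.2 t t.2⟩
      one_smul := fun t => Subtype.ext (h1 t)
      mul_smul := fun g k t => Subtype.ext (hm g k t) }
  have := Fintype.ofFinite (MulAction.orbitRel.Quotient N U)
  rw [← Nat.card_coe_set_eq, Nat.card_congr (MulAction.selfEquivSigmaOrbits N U), Nat.card_sigma,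
    ← relIndex_of_cov h]
  refine Finset.dvd_sum fun q _ => ?_
  rw [Nat.card_coe_set_eq, ← MulAction.index_stabilizer]
  exact index_dvd_of_le fun g hg => hs g g.2 _ q.out.2 (congrArg Subtype.val hg)

/-- two factors `≡ 1` modulo `m` -/
theorem one_of_mul {m a b : ℕ} (ha : m ∣ a - 1) (hab : m ∣ a * b - 1) (h0 : 0 < a * b)
    (hs : a * b < (m + 1) ^ 2) : a = 1 ∨ b = 1 := by
  by_contra! k
  have a0 : 0 < a := Nat.pos_of_mul_pos_right h0
  have b0 : 0 < b := Nat.pos_of_mul_pos_left h0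
  have hb : m ∣ b - 1 := by
    have e : a * b - 1 = (a - 1) * b + (b - 1) := by
      obtain ⟨a, rfl⟩ := Nat.exists_eq_succ_of_ne_zero a0.ne'
      obtain ⟨b, rfl⟩ := Nat.exists_eq_succ_of_ne_zero b0.ne'
      rw [Nat.sub_eq_iff_eq_add h0]
      simp only [Nat.succ_eq_add_one, Nat.add_sub_cancel]
      ring
    exact (Nat.dvd_add_right (ha.mul_right b)).1 (e ▸ hab)
  have h1 := Nat.le_of_dvd (by omega) ha
  have h2 := Nat.le_of_dvd (by omega) hb
  have := Nat.mul_le_mul (show m + 1 ≤ a by omega) (show m + 1 ≤ b by omega)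
  rw [← sq] at this
  omega

end Cfsg.Agent.DrG
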