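import Cfsg.Agent.DrG.Defs
import Cfsg.Agent.Bender.TIChar

/-! The Frobenius case (for S3550, S5732). -/

set_option autoImplicit false
set_option linter.unusedSectionVars false

namespace Cfsg.Agent.DrG

open Subgroup MulAction Cfsg.Agent.PLocal.Amb

variable {G : Type*} [Group G] [Finite G] {Ω : Type*} [MulAction G Ω] [Finite Ω] {D V : Subgroup G} {α : Ω}

theorem Reg.fin_dec (hV : Reg D V α) (g : G) : ∃ v ∈ V, (v⁻¹ * g) • α = α :=
  (hV.tr (g • α)).imp fun _ h => ⟨h.1, (mul_smul _ _ _).trans (inv_smul_eq_iff.2 h.2.symm)⟩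

/-- Proof.  `V` is a Sylow `r`-subgroup of `G` (`|G| = |V| |G_α|`, `hV.cop`).  `L = C(z) ≥ V`.  If `g ∈ L ⊓ N(V)`, write `g = v x`, `v ∈ V`, `x • α = α`;
`x` centralizes `z`, so `x = 1`: `N_L(V) = V ≤ C(V)`.  Burnside (`MonoidHom.ker_transferSylow_isComplement'` in `↥L`) gives a normal complement `W` of `V`
in `L`.  `W` contains every element of `L` of order prime to `r` (`L/W` is an `r`-group), so `L_α ≤ W`; conversely `|L_α| = |L| / |V| = |W|`, so `L_α = W ⊴ L`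
fixes every point (`L` is transitive), `L_α = ⊥`, and `g ∈ L` is `v x` with `x ∈ L_α`. -/
theorem Reg.cent_le (h : Ex Ω D) (hV : Reg D V α)
    (hf : ∀ x ∈ 𝐍[V], x • α = α → x ≠ 1 → ∀ v ∈ V, x * v = v * x → v = 1) {z : G} (hz : z ∈ V) (h1 : z ≠ 1)
    {g : G} (hg : g * z = z * g) : g ∈ V := by
  obtain ⟨r, hr, hp⟩ := hV.pg
  have := Fact.mk hr
  have d : r ∣ Nat.card V := hp.card_eq_or_dvd.resolve_left fun e => h1 ((card_eq_one.1 e).le hz)
  have c : ∀ x : G, x • α = α → (orderOf x).Coprime r := fun x hx =>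
    (hV.cop.symm.coprime_dvd_right d).coprime_dvd_left (orderOf_dvd_natCard _ hx)
  have VL : V ≤ centralizer {z} := fun v hv => mem_centralizer_singleton_iff.2 (hV.comm v hv z hz)
  obtain ⟨P, hP⟩ := IsSyl.exists_sylow (p := r) ⟨VL, hp, fun R hR h2 _ g hg => by
    obtain ⟨v, hv, e⟩ := hV.fin_dec g
    exact inv_mul_eq_one.1 (eq_one_of_isPGroup_of_coprime hR (mul_mem (inv_mem (h2 hv)) hg) (c _ e)) ▸ hv⟩
  have hN : 𝐍[(P : Subgroup (centralizer {z} : Subgroup G))] ≤ 𝐂[(P : Subgroup (centralizer {z} : Subgroup G))] := by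
    rw [hP, normalizer_eq_subgroupOf, map_subgroupOf_of_le VL]
    intro g hg k hk
    obtain ⟨v, hv, e⟩ := hV.fin_dec g
    have : v⁻¹ * g = 1 := by_contra fun ne => h1 (hf _ (mul_mem (inv_mem (le_normalizer hv)) hg) e ne z hz
      (mem_centralizer_singleton_iff.1 (mul_mem (inv_mem (VL hv)) g.2)))
    exact Subtype.ext (hV.comm _ hk _ (inv_mul_eq_one.1 this ▸ hv))
  have a : ∀ x : (centralizer {z} : Subgroup G), (x : G) • α = α → x ∈ (MonoidHom.transferSylow P hN).ker :=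
    fun x hx => Subtype.ext (eq_one_of_isPGroup_of_coprime P.isPGroup' (MonoidHom.transferSylow P hN x).2
      ((c x hx).coprime_dvd_left (by rw [orderOf_coe, orderOf_coe]; exact orderOf_map_dvd _ _)))
  have b : ∀ x ∈ (MonoidHom.transferSylow P hN).ker, (x : G) • α = α := fun x hx => by
    obtain ⟨v, hv, e⟩ := hV.fin_dec x
    have := (mul_mem_cancel_right hx).1 (a ((⟨v, VL hv⟩ : (centralizer {z} : Subgroup G))⁻¹ * x) e)
    rw [show v = 1 from congrArg Subtype.val (disjoint_def.1 (MonoidHom.ker_transferSylow_disjoint P hN P P.isPGroup')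
      (inv_mem_iff.1 this) (hP.ge hv))] at e
    simpa using e
  obtain ⟨v, hv, e⟩ := hV.fin_dec g
  refine inv_mul_eq_one.1 (h.faith (v⁻¹ * g) fun ω => ?_) ▸ hv
  obtain ⟨u, hu, rfl⟩ := hV.tr ω
  have := b _ ((MonoidHom.normal_ker _).conj_mem' _ (a ⟨_, mul_mem (inv_mem (VL hv))
    (mem_centralizer_singleton_iff.2 hg)⟩ e) ⟨u, VL hu⟩)
  rw [← mul_smul, ← inv_smul_eq_iff, ← mul_smul, ← mul_assoc]
  exact this

/-- Proof.  `V` is TI: if `k ≠ 1` and `g k g⁻¹` lie in `V` then `g V g⁻¹` centralizes `g k g⁻¹`, so lies in `V` (`cent_le`).  Apply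
`Bender.ti_dichotomy` to the group `↥D` with `K = K₁ = V.subgroupOf D`, `Y = 𝐍[V].subgroupOf D` (`hv`: `k ↦ k⁻¹ (v k v⁻¹)` is injective on `V`
by `hf`, so surjective).  The first alternative is impossible: take `x ∈ N(V) ⊓ G_α` outside `D` (`hV.cov`, `h.ne`) and `β ≠ α`; `x • β ≠ α`; if
`d • β = x • β` with `d ∈ D_α` then `d⁻¹ x ∉ D` fixes `α` and `β`. -/
theorem Reg.orbits (h : Ex Ω D) (hV : Reg D V α)
    (hf : ∀ x ∈ 𝐍[V], x • α = α → x ≠ 1 → ∀ v ∈ V, x * v = v * x → v = 1) {g : G} (hg : g ∈ D)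
    (hα : g • α = α) (ω : Ω) : ∃ x ∈ 𝐍[V] ⊓ D, x • α = α ∧ g • ω = x • ω := by
  have t : ∀ l : Ω, ∃ k ∈ V.subgroupOf D, k • α = l := fun l =>
    let ⟨v, hv, e⟩ := hV.tr l
    ⟨⟨v, hV.le hv⟩, hv, e⟩
  rcases Bender.ti_dichotomy (X := D) (K := V.subgroupOf D) (Y := (𝐍[V]).subgroupOf D) (l₀ := α)
    (comap_mono le_normalizer) (le_normalizer_comap _)
    ⟨⟨fun a b => Subtype.ext (Subtype.ext (hV.comm _ a.2 _ b.2))⟩⟩ t
    (fun k hk e => Subtype.ext (hV.free _ hk e))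
    (fun g k hk k1 e => mem_normalizer_of_cj_le (cj_le_iff_forall.2 fun x hx => hV.cent_le h hf e
      (fun e => k1 (by simpa using e)) (by
        change (g : G) * x * (g : G)⁻¹ * (g * k * (g : G)⁻¹) = g * k * (g : G)⁻¹ * (g * x * (g : G)⁻¹)
        rw [conj_mul, conj_mul, hV.comm x hx k hk]))) le_rfl
    (fun N _ hN l => (t l).imp fun k hk => ⟨hN hk.1, hk.2⟩) (fun v hv v1 e y hy => by
      obtain ⟨k, hk⟩ := Finite.injective_iff_surjective.1 (show Function.Injective fun k : V =>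
        (⟨k⁻¹ * (v * k * (v : G)⁻¹), mul_mem (inv_mem k.2) (conj_mem_of_mem_normalizer hv k.2)⟩ : V) from
          fun k l e' => Subtype.ext (mul_inv_eq_one.1 (hf v hv e (fun e => v1 (Subtype.ext e)) _
            (mul_mem k.2 (inv_mem l.2)) (by
              have : (v : G) * k * (v : G)⁻¹ = k * ((l : G)⁻¹ * (v * l * (v : G)⁻¹)) :=
                inv_mul_eq_iff_eq_mul.1 (congrArg Subtype.val e')
              rw [← mul_assoc, mul_inv_eq_iff_eq_mul.1 this]
              group)))) ⟨y, hy⟩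
      exact ⟨⟨k, hV.le k.2⟩, k.2, Subtype.ext (congrArg Subtype.val hk).symm⟩) with e | e
  · obtain ⟨x, hx, xD⟩ := SetLike.not_le_iff_exists.1 fun e => h.ne ((sup_of_le_right e).symm.trans hV.cov)
    have := Finite.one_lt_card_iff_nontrivial.1 h.two
    obtain ⟨β, hβ⟩ := exists_ne α
    obtain ⟨d, d1, d2⟩ := e β (x • β) hβ fun e => hβ (smul_left_cancel x (e.trans hx.2.symm))
    refine (hβ ((h.one (x⁻¹ * d) fun e => xD (inv_mem_iff.1 ((mul_mem_cancel_right d.2).1 e))).unique ?_ ?_)).elim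
    · exact (mul_smul _ _ _).trans (inv_smul_eq_iff.2 d2)
    · exact (mul_smul _ _ _).trans (inv_smul_eq_iff.2 (d1.trans hx.2.symm))
  · obtain ⟨x, h1, h2⟩ := e ⟨g, hg⟩ hα ω
    exact ⟨x, ⟨h1, x.2⟩, h2⟩

/-- Proof.  `X = N(V) ⊓ G_α`, `X₀ = X ⊓ D`, `e = |X₀|`, `|X| = m e`, `n = |Ω| = |V|`.  `X` acts freely on `Ω \ {α}` (`x • v • α = (x v x⁻¹) • α`, `hf`),
so `m e ∣ n - 1` (or `≤`: the orbit of one point), and `n < (m+1)²` gives `e ≤ m + 1`, `n > e (e - 1)`.  `F = (V ⊔ X₀) = N(V) ⊓ D` is transitive and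
an element of `F` fixing two points is trivial; `F_a` has order `e` for every point `a`.  By `orbits` (conjugate by `V`): if `g ∈ D` fixes `a` then
for each `ω` there is `x ∈ F_a` with `g • ω = x • ω`.
Let `y ∈ D` fix `a ≠ b`, `Φ = Fix y`, and suppose `y ≠ 1`.
(i) `|Ω \ Φ| ≤ (e-1)(e-2)`: for `w ∉ Φ` choose `x ∈ F_a`, `x' ∈ F_b` with `y • w = x • w = x' • w`; `x, x' ≠ 1`, `x ≠ x'` (else it fixes `a, b`), so `w` is
THE fixed point of `x⁻¹ x' ≠ 1`: `w ↦ (x, x')` is injective.  Moreover `x V ≠ x' V`: otherwise `x⁻¹ x' ∈ V#` has no fixed point.  As `F_b → F/V` is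
injective, for each `x` one of the `e - 1` values of `x'` is excluded (`x' = v x v⁻¹`-type: the unique `x' ∈ F_b ∩ xV`; it is `≠ 1`).
(Simplest: map `w` to the pair of cosets in `F/V`, `|F/V| = e`; both `≠ 1` and distinct: `Finset.offDiag`.)
(ii) `|Φ| ≤ e - 1`: fix `w ∉ Φ`; for `c ∈ Φ` choose `x_c ∈ F_c`, `x_c • w = y • w`; `x_c ∉ V`, and `c ↦ x_c V` is injective (if `x_c⁻¹ x_{c'} ∈ V` it fixes
`w`, so `x_c = x_{c'} ≠ 1` fixes `c, c'`).
So `n ≤ (e-1)²`, contradiction.  Hence two-point stabilizers in `D` are trivial; for `g ∈ D_α` and `β ≠ α`, `g • β = x • β` with `x ∈ X₀`, so `g = x`.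
Finally `g ∈ G_α` is `x d` with `x ∈ X`, `d ∈ D` (`hV.cov`), `d ∈ D_α ≤ N(V)`. -/
theorem Reg.frob (h : Ex Ω D) (hV : Reg D V α)
    (hf : ∀ x ∈ 𝐍[V], x • α = α → x ≠ 1 → ∀ v ∈ V, x * v = v * x → v = 1) :
    stabilizer G α ≤ 𝐍[V] := by
  classical
  have := h.normal
  have := Finite.one_lt_card_iff_nontrivial.1 h.two
  obtain ⟨β, hβ⟩ := exists_ne α
  have fr : ∀ v ∈ V, ∀ a : Ω, v • a = a → v = 1 := fun v hv a e => by
    obtain ⟨u, hu, rfl⟩ := hV.tr a
    rw [← mul_smul, hV.comm v hv u hu, mul_smul] at e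
    exact hV.free v hv (smul_left_cancel u e)
  have f2 : ∀ x ∈ 𝐍[V], ∀ a b : Ω, x • a = a → x • b = b → x ≠ 1 → a = b := fun x hx a b ha hb x1 => by
    obtain ⟨v, hv, rfl⟩ := hV.tr a
    obtain ⟨u, hu, rfl⟩ := hV.tr b
    have n := mul_mem (mul_mem (inv_mem (le_normalizer hv)) hx) (le_normalizer hv)
    have m := mul_mem (inv_mem hv) hu
    have e : (v⁻¹ * x * v) • α = α := by rw [mul_smul, mul_smul, ha, inv_smul_smul]
    rw [inv_mul_eq_one.1 (hf _ n e (fun e => x1 (by simpa [mul_assoc, inv_mul_eq_iff_eq_mul] using e)) _ m ?_)]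
    refine mul_inv_eq_iff_eq_mul.1 (inv_mul_eq_one.1 (hV.free _
      (mul_mem (inv_mem m) (conj_mem_of_mem_normalizer n m)) ?_)).symm
    rw [mul_smul, mul_smul, inv_smul_eq_iff.2 e.symm, inv_smul_eq_iff]
    simp only [mul_smul, smul_inv_smul, hb]
  have orb : ∀ g ∈ D, ∀ a ω : Ω, g • a = a → ∃ x ∈ 𝐍[V] ⊓ D, x • a = a ∧ g • ω = x • ω := fun g hg a ω e => by
    obtain ⟨v, hv, rfl⟩ := hV.tr a
    obtain ⟨x, h1, h2, h3⟩ := hV.orbits h hf (h.normal.conj_mem' g hg v)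
      (by rw [mul_smul, mul_smul, e, inv_smul_smul]) (v⁻¹ • ω)
    have vF : v ∈ 𝐍[V] ⊓ D := ⟨le_normalizer hv, hV.le hv⟩
    refine ⟨v * x * v⁻¹, mul_mem (mul_mem vF h1) (inv_mem vF), by simp [mul_smul, h2], ?_⟩
    simpa [mul_smul, inv_smul_eq_iff] using h3
  have t2 : ∀ y ∈ D, ∀ a b : Ω, y • a = a → y • b = b → a ≠ b → y = 1 := fun y hy a b ha hb ab => by
    refine h.faith y fun w => by_contra fun hw => ?_
    have : ∀ c w : Ω, ∃ x : G, ∃ t : D.subgroupOf (𝐍[V] ⊓ stabilizer G α), y • c = c →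
        x ∈ 𝐍[V] ∧ x • c = c ∧ y • w = x • w ∧ x * (t : G)⁻¹ ∈ V := fun c w => by
      by_cases e : y • c = c
      · obtain ⟨x, h1, h2, h3⟩ := orb y hy c w e
        obtain ⟨v, hv, e⟩ := hV.fin_dec x
        exact ⟨x, ⟨⟨_, 𝐍[V].mul_mem (inv_mem (le_normalizer hv)) h1.1, e⟩, mul_mem (inv_mem (hV.le hv)) h1.2⟩,
          fun _ => ⟨h1.1, h2, h3, by simpa using hv⟩⟩
      · exact ⟨1, 1, fun e' => (e e').elim⟩
    choose x t hx using this
    have k1 : ∀ c w, y • c = c → y • w ≠ w → x c w ≠ 1 := fun c w e ne e' =>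
      ne (by simpa [e'] using (hx c w e).2.2.1)
    have k2 : ∀ c w, y • c = c → y • w ≠ w → t c w ≠ 1 := fun c w e ne e' =>
      k1 c w e ne (fr _ (by simpa [e'] using (hx c w e).2.2.2) c (hx c w e).2.1)
    have k3 : ∀ c w c' w', y • c = c → y • c' = c' → t c w = t c' w' → ∀ o : Ω, x c w • o = x c' w' • o →
        x c w = x c' w' := fun c w c' w' e e' e2 o ho => mul_inv_eq_one.1 (fr _ (by
      simpa [e2, mul_assoc] using mul_mem (hx c w e).2.2.2 (inv_mem (hx c' w' e').2.2.2)) (x c' w' • o)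
        (by rw [mul_smul, inv_smul_smul, ho]))
    have k4 : ∀ c c' w, y • c = c → y • c' = c' → y • w ≠ w → t c w = t c' w → c = c' := fun c c' w e e' ne e2 =>
      f2 _ (hx c w e).1 c c' (hx c w e).2.1 (k3 c w c' w e e' e2 w
        ((hx c w e).2.2.1.symm.trans (hx c' w e').2.2.1) ▸ (hx c' w e').2.1) (k1 c w e ne)
    have := Fintype.ofFinite Ω
    have := Fintype.ofFinite G
    have i1 := Finset.card_le_card_of_injOn (s := Finset.univ.filter fun c : Ω => y • c = c)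
      (t := Finset.univ.erase 1) (fun c => t c w) (fun c hc => by simpa using k2 c w (by simpa using hc) hw)
      fun c hc c' hc' e => k4 c c' w (by simpa using hc) (by simpa using hc') hw e
    have i2 := Finset.card_le_card_of_injOn (s := Finset.univ.filter fun c : Ω => ¬ y • c = c)
      (t := (Finset.univ.erase 1).offDiag) (fun w => (t a w, t b w)) (fun w hw => by
        replace hw : y • w ≠ w := by simpa using hw
        simpa using ⟨k2 a w ha hw, k2 b w hb hw, fun e => ab (k4 a b w ha hb hw e)⟩) fun w hw u _ e => by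
      replace hw : y • w ≠ w := by simpa using hw
      have e1 := k3 a w a u ha ha (congrArg Prod.fst e) a ((hx a w ha).2.1.trans (hx a u ha).2.1.symm)
      have e2 := k3 b w b u hb hb (congrArg Prod.snd e) b ((hx b w hb).2.1.trans (hx b u hb).2.1.symm)
      refine f2 _ (mul_mem (inv_mem (hx a w ha).1) (hx b w hb).1) w u ?_ ?_ fun e => ab ?_
      · rw [mul_smul, ← (hx b w hb).2.2.1, (hx a w ha).2.2.1, inv_smul_smul]
      · rw [e1, e2, mul_smul, ← (hx b u hb).2.2.1, (hx a u ha).2.2.1, inv_smul_smul]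
      · exact f2 _ (hx a w ha).1 a b (hx a w ha).2.1 (inv_mul_eq_one.1 e ▸ (hx b w hb).2.1) (k1 a w ha hw)
    have i3 := Fintype.card_lt_of_injective_of_notMem (fun x : ↥(𝐍[V] ⊓ stabilizer G α) => (x : G) • β)
      (fun x x' e => Subtype.ext (inv_mul_eq_one.1 (by_contra fun ne => hβ (f2 _ (x⁻¹ * x').2.1 β α
        ((mul_smul _ _ _).trans (inv_smul_eq_iff.2 e.symm)) (x⁻¹ * x').2.2 ne)))) (b := α)
      fun ⟨x, e⟩ => hβ (smul_left_cancel (x : G) (e.trans x.2.2.symm))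
    have i4 := Finset.card_filter_add_card_filter_not (s := Finset.univ) fun c : Ω => y • c = c
    have i5 := (D.subgroupOf (𝐍[V] ⊓ stabilizer G α)).index_mul_card
    have i6 := h.small
    rw [← relIndex, relIndex_of_cov hV.cov, Nat.card_eq_fintype_card, Nat.card_eq_fintype_card, ← Finset.card_univ,
      ← Finset.card_erase_add_one (Finset.mem_univ 1)] at i5
    rw [Finset.offDiag_card] at i2
    rw [Finset.card_univ] at i4
    rw [Nat.card_eq_fintype_card] at i6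
    generalize (Finset.univ.erase (1 : D.subgroupOf (𝐍[V] ⊓ stabilizer G α))).card = s at i1 i2 i5
    have := Nat.le_mul_self s
    have i7 : D.index * (s + 1) < s * s := by omega
    have i8 : D.index * (s + 1) + 1 < (D.index + 1) ^ 2 := by omega
    rcases le_or_gt s D.index with e | e <;> nlinarith
  intro g hg
  obtain ⟨x, hx, d, hd, rfl⟩ := (mem_sup_of_le_normalizer_right le_normalizer_of_normal).1 (hV.cov.ge (mem_top g))
  replace hg : d • α = α := ((stabilizer G α).mul_mem_cancel_left hx.2).1 hg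
  obtain ⟨u, h1, h2, h3⟩ := orb d hd α β hg
  refine mul_mem hx.1 (inv_mul_eq_one.1 (t2 _ (mul_mem (inv_mem h1.2) hd) β α ?_ ?_ hβ) ▸ h1.1)
  · rw [mul_smul, h3, inv_smul_smul]
  · rw [mul_smul, hg, inv_smul_eq_iff, h2]

end Cfsg.Agent.DrG
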