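import Cfsg.Agent.DrG.LinA

/-! Linear step: the action is semiregular (for S3550, S5732). -/

set_option autoImplicit false
set_option linter.unusedSectionVars false

namespace Cfsg.Agent.DrG

open Subgroup MulAction Cfsg.Agent.PLocal.Amb

variable {X V : Type*} [Group X] [Finite X] [CommGroup V] [Finite V] [MulDistribMulAction X V]
  {D Y : Subgroup X} {q : ℕ}

theorem bern (x k : ℕ) : (2 + (k + 2) * x) ^ 2 ≤ 4 * (x + 1) ^ (k + 2) := by
  induction k with
  | zero => exact le_of_eq (by ring)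
  | succ k ih =>
    calc _ ≤ (2 + (k + 2) * x) ^ 2 * (x + 1) := by
          have : (2 + (k + 2) * x) ^ 2 * (x + 1) = (2 + (k + 1 + 2) * x) ^ 2 +
            (x ^ 2 * (2 * k + 3) + x ^ 3 * (k + 2) ^ 2) := by ring
          omega
      _ ≤ 4 * (x + 1) ^ (k + 2) * (x + 1) := by gcongr
      _ = _ := by ring

theorem LS.not_comm (h : LS V D Y q) (hc : ∀ a ∈ Y, ∀ b ∈ Y, a * b = b * a) : False := by
  classical
  obtain ⟨g, hg, g1, v, v1, gv⟩ := h.bad
  obtain ⟨w, w1, hw⟩ := Set.exists_max_image {u : V | u ≠ 1}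
    (fun u => Nat.card (Y ⊓ stabilizer X u : Subgroup X)) (Set.toFinite _) ⟨v, v1⟩
  have O := (Set.toFinite (orbit X w)).toFinset
  set T : Finset (Subgroup X) := (Set.toFinite (orbit X w)).toFinset.image fun u => Y ⊓ stabilizer X u with hT
  have mT : ∀ A, A ∈ T ↔ ∃ u ∈ orbit X w, Y ⊓ stabilizer X u = A := fun A => by
    rw [hT, Finset.mem_image]
    simp only [Set.Finite.mem_toFinset]
  set l := Nat.card (fx V ((Y ⊓ stabilizer X w : Subgroup X) : Set X)) with hl
  have le1 : ∀ (x : X) (u : V), Nat.card (fx V ((Y ⊓ stabilizer X u : Subgroup X) : Set X)) ≤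
      Nat.card (fx V ((Y ⊓ stabilizer X (x • u) : Subgroup X) : Set X)) := fun x u =>
    card_le_of_smul x fun t ht a ha => by
      rw [← inv_smul_eq_iff, ← mul_smul, ← mul_smul]
      exact ht _ (h.conj_fix x ha)
  have cT : ∀ A ∈ T, Nat.card (fx V (A : Set X)) = l := fun A hA => by
    obtain ⟨_, ⟨x, rfl⟩, rfl⟩ := (mT A).1 hA
    refine le_antisymm ?_ (le1 x w)
    have := le1 x⁻¹ (x • w)
    rwa [inv_smul_smul] at this
  have k1 := indep (X := X) (fun A : Subgroup X => fx V (A : Set X)) T fun A hA B hB ne => by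
    obtain ⟨u, hu, rfl⟩ := (mT A).1 hA
    obtain ⟨u', hu', rfl⟩ := (mT B).1 hB
    have : ¬ Y ⊓ stabilizer X u ≤ Y ⊓ stabilizer X u' := fun k =>
      ne (eq_of_le_of_card_ge k ((h.stab_eq hu').trans (h.stab_eq hu).symm).le)
    obtain ⟨b, b1, b2⟩ := SetLike.not_le_iff_exists.1 this
    refine ⟨b, fun C hC t ht a ha => ?_, fun t ht => ht b b1, fun t ht e => by_contra fun t1 => b2 ?_⟩
    · obtain ⟨u'', -, rfl⟩ := (mT C).1 hC
      rw [← mul_smul, hc a ha.1 b b1.1, mul_smul, ht a ha]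
    · have : Y ⊓ stabilizer X u' = Y ⊓ stabilizer X t :=
        eq_of_le_of_card_ge (fun a ha => ⟨ha.1, ht a ha⟩) ((hw t t1).trans (h.stab_eq hu').ge)
      rw [this]
      exact ⟨b1.1, e⟩
  rw [Finset.prod_congr rfl cT, Finset.prod_const] at k1
  have k2 : (orbit X w).ncard ≤ (l - 1) * T.card := by
    rw [Set.ncard_eq_toFinset_card _ (Set.toFinite _)]
    refine Finset.card_le_mul_card_image _ _ fun A hA => ?_
    rw [← cT A hA]
    refine le_card_pred _ _ fun u hu => ?_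
    rw [Finset.mem_filter, Set.Finite.mem_toFinset] at hu
    exact ⟨fun a ha => (hu.2.ge ha).2, ne_one_of_orbit hu.1 w1⟩
  have k3 := h.orb w1
  have k4 := two_card_le (h.stab_lt w1)
  have s0 : 0 < Nat.card (Y ⊓ stabilizer X w : Subgroup X) := Nat.card_pos
  have k5 : D.index * 2 ≤ (orbit X w).ncard := by
    refine Nat.le_of_mul_le_mul_right (le_trans ?_ k3) s0
    rw [mul_assoc, mul_comm 2]
    gcongr
  have k6 : 1 < T.card := by
    by_contra! k
    rw [Finset.card_le_one] at k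
    have hn : (Y ⊓ stabilizer X w).Normal := ⟨fun a ha x => by
      have e := k _ ((mT _).2 ⟨w, mem_orbit_self w, rfl⟩) _ ((mT _).2 ⟨_, mem_orbit w x⁻¹, rfl⟩)
      have := h.conj_fix x⁻¹ (e.le ha)
      rwa [inv_inv] at this⟩
    have : Y ⊓ stabilizer X w = ⊥ := eq_bot_iff.2 fun a ha => by_contra fun a1 =>
      w1 (h.min _ hn (h.stab_lt w1) a ha a1 w ha.2)
    have k7 := hw v v1
    simp only [this, card_bot] at k7
    have := (card_le_one_iff_eq_bot _).1 k7
    exact g1 (mem_bot.1 (this.le ⟨hg, gv⟩))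
  obtain ⟨k, hk⟩ := Nat.exists_eq_add_of_le' k6
  have l0 : 0 < l := Nat.card_pos
  obtain ⟨x, hx⟩ := Nat.exists_eq_add_of_le' l0
  have k8 := bern x k
  have k9 := h.small
  rw [hk, hx] at k1 k2
  change _ ≤ x * (k + 2) at k2
  have : (2 * (D.index + 1)) ^ 2 ≤ (2 + (k + 2) * x) ^ 2 := by
    gcongr
    rw [mul_comm (k + 2)]
    omega
  change (x + 1) ^ (k + 2) ≤ _ at k1
  rw [mul_pow] at this
  omega

theorem LS.pw (h : LS V D Y q) {B : Subgroup X} (b1 : ∀ g ∈ B, g ≠ 1 → ∀ v : V, g • v = v → v = 1)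
    (b2 : ∀ a ∈ Y, ∀ b ∈ Y, a⁻¹ * (b * a * b⁻¹) ∈ B) {g : X} (hg : g ∈ Y) (s : Finset X)
    (hs : ∀ a ∈ s, ∃ y ∈ Y, a = y * g * y⁻¹) (hc : ∀ a ∈ s, ∀ b ∈ s, a * b = b * a) :
    Nat.card (fx V {g}) ^ s.card ≤ Nat.card V := by
  have k1 := indep (X := X) (fun a : X => fx V {a}) s fun a ha b hb ne =>
    ⟨a, fun c hc' w hw => ?_, fun w hw => mem_fx1.1 hw, fun w hw e => ?_⟩
  · refine le_trans ?_ k1
    refine Finset.pow_card_le_prod _ _ _ fun a ha => ?_
    obtain ⟨y, -, rfl⟩ := hs a ha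
    refine card_le_of_smul y fun v hv => mem_fx1.2 ?_
    rw [mul_smul, inv_smul_smul, mul_smul, mem_fx1.1 hv]
  · rw [mem_fx1] at hw ⊢
    rw [← mul_smul, hc c hc' a ha, mul_smul, hw]
  · obtain ⟨y, hy, rfl⟩ := hs a ha
    obtain ⟨z, hz, rfl⟩ := hs b hb
    have := b2 _ (mul_mem (mul_mem hy hg) (inv_mem hy)) _ (mul_mem hz (inv_mem hy))
    have e2 : z * y⁻¹ * (y * g * y⁻¹) * (z * y⁻¹)⁻¹ = z * g * z⁻¹ := by group
    rw [e2] at this
    refine b1 _ this (fun k => ne (inv_mul_eq_one.1 k)) w ?_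
    rw [mul_smul, mem_fx1.1 hw, inv_smul_eq_iff, e]

theorem LS.false [hq : Fact q.Prime] (h : LS V D Y q) : False := by
  classical
  refine h.not_comm fun a ha b hb => by_contra fun ab => ?_
  have := h.nY
  obtain ⟨B, b0, b1, b2, b3⟩ := h.phi
  set I : Finset X := (Set.toFinite {g | g ∈ Y ∧ g ≠ 1 ∧ ∃ u : V, u ≠ 1 ∧ g • u = u}).toFinset with hI
  have mI : ∀ g, g ∈ I ↔ g ∈ Y ∧ g ≠ 1 ∧ ∃ u : V, u ≠ 1 ∧ g • u = u := fun g => by
    rw [hI, Set.Finite.mem_toFinset]; rfl
  have nI : I.Nonempty := by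
    obtain ⟨g, hg⟩ := h.bad
    exact ⟨g, (mI g).2 hg⟩
  obtain ⟨g, gI, hg⟩ := I.exists_max_image (fun g => Nat.card (fx V {g})) nI
  set c := Nat.card (fx V {g}) with hc
  obtain ⟨gY, g1, v, v1, gv⟩ := (mI g).1 gI
  have cnt : ∀ w : V, w ≠ 1 → ∀ s, s = Nat.card (Y ⊓ stabilizer X w : Subgroup X) →
      D.index * Nat.card Y * (s - 1) ≤ s * (I.card * (c - 1)) := fun w hw s hs =>
    h.count hw I c (fun g a b u c d => (mI g).2 ⟨a, b, u, c, d⟩) hg hs
  have cnt2 : D.index * Nat.card Y ≤ 2 * (I.card * (c - 1)) := by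
    have k := cnt v v1 _ rfl
    have : 1 < Nat.card (Y ⊓ stabilizer X v : Subgroup X) :=
      (one_lt_card_iff_ne_bot _).2 fun e => g1 (mem_bot.1 (e.le ⟨gY, gv⟩))
    obtain ⟨s, hs⟩ := Nat.exists_eq_add_of_le' this
    rw [hs] at k
    change _ * (s + 1) ≤ (s + 2) * _ at k
    generalize D.index * Nat.card Y = A at k ⊢
    generalize I.card * (c - 1) = P at k ⊢
    by_contra! k2
    have := Nat.mul_le_mul_right (s + 1) k2.le
    nlinarith
  have lt : Y ⊓ centralizer {g} < Y := lt_of_le_of_ne inf_le_left fun e => by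
    refine v1 (h.min (Y ⊓ 𝐂[Y]) inferInstance (lt_of_le_of_ne inf_le_left fun e => ?_) g
      ⟨gY, fun y hy => mem_centralizer_singleton_iff.1 (e.ge hy).2⟩ g1 v gv)
    exact ab ((e.ge hb).2 a ha)
  obtain ⟨t, ⟨tY, tN⟩, tC⟩ := SetLike.exists_of_lt (lt_inf_normalizer h.pg lt)
  have m0 : g ∈ Y ⊓ centralizer {g} := ⟨gY, mem_centralizer_singleton_iff.2 rfl⟩
  have m1 := (mem_normalizer_iff.1 tN g).1 m0
  have m2 := (mem_normalizer_iff.1 tN _).1 m1
  have c1 := mem_centralizer_singleton_iff.1 m1.2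
  have c2 := mem_centralizer_singleton_iff.1 m2.2
  have n1 : g ≠ t * g * t⁻¹ := fun e =>
    tC ⟨tY, mem_centralizer_singleton_iff.2 (by rw [← mul_inv_eq_iff_eq_mul, ← e])⟩
  have iY : I.card ≤ Nat.card Y - 1 := le_card_pred Y I fun x hx => ⟨((mI x).1 hx).1, ((mI x).1 hx).2.1⟩
  have Y0 : 0 < Nat.card Y := Nat.card_pos
  have c0 : 0 < c := Nat.card_pos
  have i0 : 0 < I.card := nI.card_pos
  have sm := h.small
  rcases eq_or_ne q 2 with rfl | q2
  · have k := h.pw b1 b2 gY {g, t * g * t⁻¹} (by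
      simp only [Finset.mem_insert, Finset.mem_singleton, forall_eq_or_imp, forall_eq]
      exact ⟨⟨1, one_mem _, by group⟩, t, tY, rfl⟩) (by
      simp only [Finset.mem_insert, Finset.mem_singleton, forall_eq_or_imp, forall_eq]
      exact ⟨⟨trivial, c1.symm⟩, c1, trivial⟩)
    rw [Finset.card_pair n1, ← hc] at k
    have cm : c - 1 < D.index := by
      have := lt_of_pow_lt_pow_left₀ 2 (Nat.zero_le _) (k.trans_lt sm)
      omega
    have sq : ∀ x ∈ I, x * x = 1 := fun x hx => by_contra fun e => by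
      obtain ⟨xY, -, u, u1, xu⟩ := (mI x).1 hx
      exact u1 (b1 _ (pow_two x ▸ b3 x xY) e u (by rw [mul_smul, xu, xu]))
    set J := I.filter fun x => g * x ∈ I with hJ
    have cJ : ∀ x ∈ J, x * g = g * x := fun x hx => by
      rw [hJ, Finset.mem_filter] at hx
      calc x * g = (g * x)⁻¹ := by
            rw [mul_inv_rev, inv_eq_of_mul_eq_one_right (sq g gI), inv_eq_of_mul_eq_one_right (sq x hx.1)]
        _ = _ := inv_eq_of_mul_eq_one_right (sq _ hx.2)
    have j1 : I.card + I.card ≤ J.card + Nat.card Y := by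
      have e := Finset.card_union_add_card_inter I (I.image fun x => g * x)
      rw [Finset.card_image_of_injective _ (mul_right_injective g)] at e
      have e1 : (I ∪ I.image fun x => g * x).card ≤ Nat.card Y := by
        rw [← SetLike.coe_sort_coe, Nat.card_coe_set_eq, ← Set.ncard_coe_finset]
        refine Set.ncard_le_ncard fun x hx => ?_
        rcases Finset.mem_union.1 hx with k | k
        · exact ((mI x).1 k).1
        · obtain ⟨y, hy, rfl⟩ := Finset.mem_image.1 k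
          exact mul_mem gY ((mI y).1 hy).1
      have e2 : (I ∩ I.image fun x => g * x).card ≤ J.card := Finset.card_le_card fun x hx => by
        obtain ⟨y, hy, rfl⟩ := Finset.mem_image.1 (Finset.mem_inter.1 hx).2
        refine Finset.mem_filter.2 ⟨(Finset.mem_inter.1 hx).1, ?_⟩
        rwa [← mul_assoc, sq g gI, one_mul]
      omega
    have j2 : J.card ≤ Nat.card (Y ⊓ centralizer {g} : Subgroup X) - 1 := le_card_pred _ _ fun x hx =>
      ⟨⟨((mI x).1 (Finset.mem_filter.1 hx).1).1, mem_centralizer_singleton_iff.2 (cJ x hx)⟩,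
        ((mI x).1 (Finset.mem_filter.1 hx).1).2.1⟩
    have j3 := two_card_le lt
    have j4 : Nat.card Y < 2 * I.card := by
      refine Nat.lt_of_mul_lt_mul_left (a := D.index) (cnt2.trans_lt ?_)
      nlinarith
    obtain ⟨x, xJ⟩ := Finset.card_pos.1 (show 0 < J.card by omega)
    obtain ⟨xI, gx⟩ := Finset.mem_filter.1 xJ
    obtain ⟨xY, x1, w, w1, xw⟩ := (mI x).1 xI
    have four : ∀ u : V, u ≠ 1 → ∀ y ∈ Y, y ≠ 1 → y ≠ x → x • u = u → y • u = u → False := by
      intro u u1 y yY y1 yx xu yu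
      have k1 := cnt u u1 _ rfl
      have k2 := le_card_pred (Y ⊓ stabilizer X u) {x, y, x * y} (by
        simp only [Finset.mem_insert, Finset.mem_singleton, forall_eq_or_imp, forall_eq]
        refine ⟨⟨⟨xY, xu⟩, x1⟩, ⟨⟨yY, yu⟩, y1⟩, mul_mem ⟨xY, xu⟩ ⟨yY, yu⟩, fun e => yx ?_⟩
        exact mul_left_cancel (e.trans (sq x xI).symm))
      rw [Finset.card_eq_three.2 ⟨x, y, x * y, yx.symm, by simpa using y1, by simpa using x1, rfl⟩] at k2
      obtain ⟨s, hs⟩ := Nat.exists_eq_add_of_le' (show 4 ≤ Nat.card (Y ⊓ stabilizer X u : Subgroup X) by omega)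
      rw [hs] at k1
      change _ * (s + 3) ≤ _ at k1
      have k3 : (s + 4) * (I.card * (c - 1)) < (s + 4) * (I.card * D.index) := by gcongr
      have k4 : D.index * (Nat.card Y * (s + 3)) < D.index * ((s + 4) * I.card) := by nlinarith
      have k5 := Nat.lt_of_mul_lt_mul_left k4
      have k6 : 4 * I.card ≤ 3 * Nat.card Y := by omega
      nlinarith
    have B1 : B ≠ ⊥ := fun e => n1 (inv_mul_eq_one.1 (mem_bot.1 (e.le (b2 g gY t tY))))
    obtain ⟨z, hz⟩ := exists_prime_orderOf_dvd_card' (G := B) 2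
      ((h.pg.to_le b0).card_eq_or_dvd.resolve_left fun e => B1 (card_eq_one.1 e))
    have z1 : (z : X) ≠ 1 := fun e => by
      rw [show z = 1 from Subtype.ext e, orderOf_one] at hz
      omega
    have z2 : (z : X) * z = 1 := by
      rw [← pow_two, ← hz, ← coe_pow, pow_orderOf_eq_one, coe_one]
    have zi : ∀ u : V, (z : X) • u = u⁻¹ := fun u => eq_inv_of_mul_eq_one_right
      (b1 z z.2 z1 _ (by rw [smul_mul', ← mul_smul, z2, one_smul, mul_comm]))
    have zI : (z : X) ∉ I := fun k => by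
      obtain ⟨-, -, u, u1, e⟩ := (mI _).1 k
      exact u1 (b1 z z.2 z1 u e)
    by_cases e : w * g • w = 1
    · refine four w w1 (z * g) (mul_mem (b0 z.2) gY) (fun k => zI ?_) (fun k => zI ?_) xw ?_
      · rwa [mul_right_cancel (k.trans (sq g gI).symm)]
      · rwa [← cJ x xJ, ← k, mul_assoc, sq g gI, mul_one] at gx
      · rw [mul_smul, zi, ← eq_inv_of_mul_eq_one_left e]
    · refine four _ e g gY g1 (fun k => ?_) ?_ ?_
      · rw [← k, sq g gI] at gx
        exact ((mI 1).1 gx).2.1 rfl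
      · rw [smul_mul', ← mul_smul, cJ x xJ, mul_smul, xw]
      · rw [smul_mul', ← mul_smul, sq g gI, one_smul, mul_comm]
  · have c3 : t * (t * g * t⁻¹) * t⁻¹ * (t * g * t⁻¹) = t * g * t⁻¹ * (t * (t * g * t⁻¹) * t⁻¹) := by
      calc _ = t * (t * g * t⁻¹ * g) * t⁻¹ := by group
        _ = _ := by rw [c1]; group
    have n2 : t * g * t⁻¹ ≠ t * (t * g * t⁻¹) * t⁻¹ := fun e => n1 (by simpa using e)
    have n3 : g ≠ t * (t * g * t⁻¹) * t⁻¹ := fun e => by
      have m : t ^ 2 ∈ Y ⊓ centralizer {g} := ⟨pow_mem tY 2, mem_centralizer_singleton_iff.2 (by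
        rw [← mul_inv_eq_iff_eq_mul, pow_two]
        conv_rhs => rw [e]
        group)⟩
      obtain ⟨n, hn⟩ := h.pg ⟨t, tY⟩
      obtain ⟨r, hr⟩ := (hq.out.odd_of_ne_two q2).pow (n := n)
      have e2 : t ^ (2 * r + 1) = 1 := hr ▸ congrArg Subtype.val hn
      rw [pow_succ, pow_mul] at e2
      exact tC (eq_inv_of_mul_eq_one_right e2 ▸ inv_mem (pow_mem m r))
    have k := h.pw b1 b2 gY {g, t * g * t⁻¹, t * (t * g * t⁻¹) * t⁻¹} (by
      simp only [Finset.mem_insert, Finset.mem_singleton, forall_eq_or_imp, forall_eq]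
      exact ⟨⟨1, one_mem _, by group⟩, ⟨t, tY, rfl⟩, t * t, mul_mem tY tY, by group⟩) (by
      simp only [Finset.mem_insert, Finset.mem_singleton, forall_eq_or_imp, forall_eq]
      exact ⟨⟨trivial, c1.symm, c2.symm⟩, ⟨c1, trivial, c3.symm⟩, c2, c3, trivial⟩)
    rw [Finset.card_eq_three.2 ⟨_, _, _, n1, n3, n2, rfl⟩, ← hc] at k
    obtain ⟨d, hd⟩ := Nat.exists_eq_add_of_le' c0
    rw [hd] at k cnt2
    rw [Nat.add_sub_cancel] at cnt2
    have k2 : (D.index + 1) ^ 2 ≤ (2 * d) ^ 2 := by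
      gcongr
      by_contra! k3
      have : 0 < D.index := Nat.pos_of_ne_zero index_ne_zero_of_finite
      have : 2 * d * I.card ≤ D.index * I.card := by gcongr; omega
      have : D.index * I.card < D.index * Nat.card Y := by gcongr; omega
      nlinarith
    have k3 : (d + 1) ^ 3 < (2 * d) ^ 2 := (k.trans_lt sm).trans_le k2
    nlinarith [sq_nonneg ((d : ℤ) - 1), Nat.zero_le d]

/-- If the elements outside the normal subgroup `D` act fixed point freely and `|V| < (|X : D| + 1)²` then the action is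
semiregular. -/
theorem lin [D.Normal] (faith : ∀ x : X, (∀ v : V, x • v = v) → x = 1)
    (out : ∀ x, x ∉ D → ∀ v : V, x • v = v → v = 1) (small : Nat.card V < (D.index + 1) ^ 2)
    {x : X} (x1 : x ≠ 1) {v : V} (xv : x • v = v) : v = 1 := by
  by_contra v1
  obtain ⟨y, hy⟩ := exists_prime_orderOf_dvd_card' (G := zpowers x) (orderOf x).minFac
    (hp := ⟨Nat.minFac_prime (mt orderOf_eq_one_iff.1 x1)⟩) (Nat.card_zpowers x ▸ Nat.minFac_dvd _)
  have hq : Fact (orderOf x).minFac.Prime := ⟨Nat.minFac_prime (mt orderOf_eq_one_iff.1 x1)⟩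
  generalize (orderOf x).minFac = q at hy hq
  have yv : (y : X) • v = v := (zpowers_le.2 (show x ∈ stabilizer X v from xv) y.2 :)
  have y1 : (y : X) ≠ 1 := fun e => by
    rw [show y = 1 from Subtype.ext e, orderOf_one] at hy
    exact hq.out.one_lt.ne hy
  have yD : (y : X) ∈ D := by_contra fun k => v1 (out _ k v yv)
  obtain ⟨P, hP, yP⟩ := exists_isSyl_ge (p := q) (R := zpowers (y : X))
    (IsPGroup.of_card (n := 1) (by rw [Nat.card_zpowers, orderOf_coe, hy, pow_one])) (zpowers_le.2 yD)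
  have cov : 𝐍[P] ⊔ D = ⊤ := by
    have := hP.frattini_sup le_top (normalizer_eq_top D).ge
    rwa [top_inf_eq, sup_comm] at this
  have key : ∀ n : ℕ, ∀ B : Subgroup 𝐍[P], Nat.card B = n → B.Normal → B ≤ P.subgroupOf 𝐍[P] →
      ∀ g ∈ B, g ≠ 1 → ∀ v : V, g • v = v → v = 1 := by
    intro n
    induction n using Nat.strong_induction_on with
    | _ n ih =>
      intro B hn nB le g hg g1 u gu
      by_contra u1
      refine LS.false (V := V) (D := D.subgroupOf 𝐍[P]) (Y := B) (q := q) ⟨inferInstance,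
        fun a ha => Subtype.ext (faith _ ha), fun a ha => out _ ha, ?_, nB,
        fun a ha => hP.le (le ha), (isPGroup_subgroupOf hP.pgrp _).to_le le,
        fun C nC lt => ih _ (by have := two_card_le lt; have := Nat.card_pos (α := C); omega) C rfl nC (lt.le.trans le), g, hg, g1, u, u1, gu⟩
      rwa [← relIndex, relIndex_of_cov cov]
  exact v1 (key _ _ rfl (normal_subgroupOf' le_rfl) le_rfl ⟨y, le_normalizer (yP (mem_zpowers _))⟩
    (yP (mem_zpowers _)) (fun e => y1 (congrArg Subtype.val e)) v yv)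

end Cfsg.Agent.DrG
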