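import Cfsg.Agent.DrG.Defs
import Cfsg.Agent.Grp.Card
import Cfsg.Agent.Grp.PFrattini

/-! Linear step, counting lemmas (for S3550, S5732). -/

set_option autoImplicit false
set_option linter.unusedSectionVars false

namespace Cfsg.Agent.DrG

open Subgroup MulAction Cfsg.Agent.PLocal.Amb
open scoped commutatorElement

variable {X V : Type*} [Group X] [Finite X] [CommGroup V] [Finite V] [MulDistribMulAction X V]

/-- common fixed points -/
def fx (V : Type*) [CommGroup V] [MulDistribMulAction X V] (S : Set X) : Subgroup V where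
  carrier := {v | ∀ g ∈ S, g • v = v}
  mul_mem' := fun ha hb g hg => by rw [smul_mul', ha g hg, hb g hg]
  one_mem' := fun g _ => smul_one g
  inv_mem' := fun ha g hg => by rw [smul_inv', ha g hg]

theorem mem_fx {S : Set X} {v : V} : v ∈ fx V S ↔ ∀ g ∈ S, g • v = v := Iff.rfl

theorem mem_fx1 {g : X} {v : V} : v ∈ fx V {g} ↔ g • v = v := by simp [mem_fx]

theorem card_le_of_smul {A B : Subgroup V} (x : X) (h : ∀ v ∈ A, x • v ∈ B) :
    Nat.card A ≤ Nat.card B :=
  Nat.card_le_card_of_injective (fun v : A => (⟨x • (v : V), h v v.2⟩ : B)) fun _ _ e =>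
    Subtype.ext (MulAction.injective x (congrArg Subtype.val e))

theorem indep {ι : Type*} (W : ι → Subgroup V) (s : Finset ι)
    (h : ∀ i ∈ s, ∀ j ∈ s, i ≠ j → ∃ b : X, (∀ k ∈ s, ∀ w ∈ W k, b • w ∈ W k) ∧
      (∀ w ∈ W i, b • w = w) ∧ ∀ w ∈ W j, b • w = w → w = 1) :
    ∏ i ∈ s, Nat.card (W i) ≤ Nat.card V := by
  classical
  have k1 : ∀ j ∈ s, ∀ t : Finset ι, t ⊆ s → j ∉ t → ∃ φ : V →* V, (∀ k ∈ s, ∀ w ∈ W k, φ w ∈ W k) ∧
      (∀ i ∈ t, ∀ w ∈ W i, φ w = 1) ∧ ∀ w ∈ W j, φ w = 1 → w = 1 := by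
    intro j hj t
    induction t using Finset.induction_on with
    | empty => exact fun _ _ => ⟨MonoidHom.id V, fun _ _ _ h => h, by simp, fun _ _ h => h⟩
    | insert a t _ ih =>
      intro hs hn
      rw [Finset.mem_insert, not_or] at hn
      obtain ⟨φ, p1, p2, p3⟩ := ih ((Finset.subset_insert _ _).trans hs) hn.2
      have ha := hs (Finset.mem_insert_self _ _)
      obtain ⟨b, q1, q2, q3⟩ := h a ha j hj (Ne.symm hn.1)
      refine ⟨(MulDistribMulAction.toMonoidHom V b / MonoidHom.id V).comp φ, fun k hk w hw => ?_,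
        fun i hi w hw => ?_, fun w hw e => ?_⟩
      · exact div_mem (q1 k hk _ (p1 k hk w hw)) (p1 k hk w hw)
      · change b • φ w / φ w = 1
        rcases Finset.mem_insert.1 hi with rfl | hi
        · rw [q2 _ (p1 i ha w hw), div_self']
        · rw [p2 i hi w hw, smul_one, div_self']
      · exact p3 w hw (q3 _ (p1 j hj w hw) (div_eq_one.1 e))
  have k2 : ∀ t : Finset ι, t ⊆ s → Nat.card (t.sup W : Subgroup V) = ∏ i ∈ t, Nat.card (W i) := by
    intro t
    induction t using Finset.induction_on with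
    | empty => simp
    | insert a t hn ih =>
      intro hs
      have ht := (Finset.subset_insert _ _).trans hs
      obtain ⟨φ, -, p2, p3⟩ := k1 a (hs (Finset.mem_insert_self _ _)) t ht hn
      have hk : t.sup W ≤ φ.ker := Finset.sup_le fun i hi w hw => p2 i hi w hw
      rw [Finset.sup_insert, Finset.prod_insert hn, Grp.card_sup_of_disjoint, ih ht]
      exact eq_bot_iff.2 fun w hw => p3 w hw.1 (hk hw.2)
  rw [← k2 s subset_rfl]
  exact card_le_card_group _

theorem card_pred_le {G : Type*} [Group G] [Finite G] (H : Subgroup G) (t : Finset G)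
    (h : ∀ g ∈ H, g ≠ 1 → g ∈ t) : Nat.card H - 1 ≤ t.card := by
  rw [← SetLike.coe_sort_coe, Nat.card_coe_set_eq, ← Set.ncard_sdiff_singleton_of_mem H.one_mem,
    ← Set.ncard_coe_finset]
  exact Set.ncard_le_ncard fun g hg => h g hg.1 hg.2

theorem le_card_pred {G : Type*} [Group G] [Finite G] (H : Subgroup G) (t : Finset G)
    (h : ∀ g ∈ t, g ∈ H ∧ g ≠ 1) : t.card ≤ Nat.card H - 1 := by
  rw [← SetLike.coe_sort_coe, Nat.card_coe_set_eq, ← Set.ncard_sdiff_singleton_of_mem H.one_mem,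
    ← Set.ncard_coe_finset]
  exact Set.ncard_le_ncard fun g hg => h g hg

theorem two_card_le {G : Type*} [Group G] [Finite G] {C Y : Subgroup G} (h : C < Y) :
    Nat.card C * 2 ≤ Nat.card Y := by
  rw [← Grp.card_mul_relIndex h.le]
  have h0 : C.relIndex Y ≠ 0 := index_ne_zero_of_finite
  have h1 : C.relIndex Y ≠ 1 := fun e => h.not_ge (relIndex_eq_one.1 e)
  exact Nat.mul_le_mul_left _ (by omega)

/-- `Y` is a minimal normal `q`-subgroup that is not semiregular -/
structure LS (V : Type*) [CommGroup V] [MulDistribMulAction X V] (D Y : Subgroup X) (q : ℕ) : Prop where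
  nD : D.Normal
  faith : ∀ x : X, (∀ v : V, x • v = v) → x = 1
  out : ∀ x, x ∉ D → ∀ v : V, x • v = v → v = 1
  small : Nat.card V < (D.index + 1) ^ 2
  nY : Y.Normal
  le : Y ≤ D
  pg : IsPGroup q Y
  min : ∀ B : Subgroup X, B.Normal → B < Y → ∀ g ∈ B, g ≠ 1 → ∀ v : V, g • v = v → v = 1
  bad : ∃ g ∈ Y, g ≠ 1 ∧ ∃ v : V, v ≠ 1 ∧ g • v = v

variable {D Y : Subgroup X} {q : ℕ}

theorem LS.orb (h : LS V D Y q) {w : V} (hw : w ≠ 1) :
    D.index * Nat.card Y ≤ (orbit X w).ncard * Nat.card (Y ⊓ stabilizer X w : Subgroup X) := by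
  have := h.nY
  have hS : stabilizer X w ≤ D := fun x hx => by_contra fun k => hw (h.out x k w hx)
  have e1 := Grp.card_sup_mul_card_inf (stabilizer X w) Y
  have e2 : Nat.card (stabilizer X w ⊔ Y : Subgroup X) ≤ Nat.card D := card_le_of_le (sup_le hS h.le)
  have e3 := D.card_mul_index
  have e4 := (stabilizer X w).card_mul_index
  rw [index_stabilizer] at e4
  rw [inf_comm] at e1
  refine Nat.le_of_mul_le_mul_left ?_ (Nat.card_pos (α := stabilizer X w))
  calc _ = D.index * (Nat.card (stabilizer X w) * Nat.card Y) := by ring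
    _ = D.index * Nat.card (stabilizer X w ⊔ Y : Subgroup X) *
      Nat.card (Y ⊓ stabilizer X w : Subgroup X) := by rw [← e1]; ring
    _ ≤ D.index * Nat.card D * Nat.card (Y ⊓ stabilizer X w : Subgroup X) := by gcongr
    _ = _ := by rw [mul_comm D.index, e3, ← e4]; ring

theorem LS.conj_fix (h : LS V D Y q) (x : X) {w : V} {g : X} (hg : g ∈ Y ⊓ stabilizer X (x • w)) :
    x⁻¹ * g * x ∈ Y ⊓ stabilizer X w :=
  ⟨h.nY.conj_mem' g hg.1 x, by
    have e : g • x • w = x • w := hg.2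
    change (x⁻¹ * g * x) • w = w
    rw [mul_smul, mul_smul, e, inv_smul_smul]⟩

theorem LS.stab_le (h : LS V D Y q) (x : X) (w : V) :
    Nat.card (Y ⊓ stabilizer X (x • w) : Subgroup X) ≤ Nat.card (Y ⊓ stabilizer X w : Subgroup X) :=
  Nat.card_le_card_of_injective
    (fun g : (Y ⊓ stabilizer X (x • w) : Subgroup X) =>
      (⟨x⁻¹ * g * x, h.conj_fix x g.2⟩ : (Y ⊓ stabilizer X w : Subgroup X))) fun _ _ e =>
    Subtype.ext (by simpa using congrArg Subtype.val e)

theorem LS.stab_eq (h : LS V D Y q) {u w : V} (hu : u ∈ orbit X w) :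
    Nat.card (Y ⊓ stabilizer X u : Subgroup X) = Nat.card (Y ⊓ stabilizer X w : Subgroup X) := by
  obtain ⟨x, rfl⟩ := hu
  refine le_antisymm (h.stab_le x w) ?_
  have := h.stab_le x⁻¹ (x • w)
  rwa [inv_smul_smul] at this

theorem ne_one_of_orbit {u w : V} (hu : u ∈ orbit X w) (hw : w ≠ 1) : u ≠ 1 := by
  obtain ⟨x, rfl⟩ := hu
  exact fun e => hw (MulAction.injective x (e.trans (smul_one x).symm))

theorem LS.count (h : LS V D Y q) {w : V} (hw : w ≠ 1) (I : Finset X) (c : ℕ)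
    (hI : ∀ g ∈ Y, g ≠ 1 → ∀ u : V, u ≠ 1 → g • u = u → g ∈ I)
    (hc : ∀ g ∈ I, Nat.card (fx V {g}) ≤ c) {s : ℕ}
    (hs : s = Nat.card (Y ⊓ stabilizer X w : Subgroup X)) :
    D.index * Nat.card Y * (s - 1) ≤ s * (I.card * (c - 1)) := by
  classical
  have k := Finset.card_mul_le_card_mul (s := (Set.toFinite (orbit X w)).toFinset) (t := I)
    (fun u g => g • u = u) (m := s - 1) (n := c - 1) (fun u hu => ?_) fun g hg => ?_
  · rw [← Set.ncard_eq_toFinset_card] at k
    have k2 := h.orb hw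
    rw [← hs] at k2
    calc _ ≤ (orbit X w).ncard * s * (s - 1) := by gcongr
      _ = s * ((orbit X w).ncard * (s - 1)) := by ring
      _ ≤ _ := by gcongr
  · rw [Set.Finite.mem_toFinset] at hu
    rw [hs, ← h.stab_eq hu]
    exact card_pred_le _ _ fun g hg g1 => (Finset.mem_bipartiteAbove _).2
      ⟨hI g hg.1 g1 u (ne_one_of_orbit hu hw) hg.2, hg.2⟩
  · refine (le_card_pred (fx V {g}) _ fun u hu => ?_).trans (Nat.sub_le_sub_right (hc g hg) 1)
    rw [Finset.mem_bipartiteBelow, Set.Finite.mem_toFinset] at hu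
    exact ⟨mem_fx1.2 hu.2, ne_one_of_orbit hu.1 hw⟩

theorem LS.dvd (h : LS V D Y q) (W : Subgroup V) (hW : ∀ x : X, ∀ w ∈ W, x • w ∈ W) :
    D.index ∣ Nat.card W - 1 := by
  have := h.nD
  rw [← SetLike.coe_sort_coe, Nat.card_coe_set_eq, ← Set.ncard_sdiff_singleton_of_mem W.one_mem]
  exact dvd_ncard (N := ⊤) (top_sup_eq _) (fun x (v : V) => x • v) (one_smul X) (mul_smul)
    _ (fun g _ t ht => ⟨hW g t ht.1, ne_one_of_orbit ⟨g, rfl⟩ ht.2⟩)
    fun g _ t ht e => by_contra fun k => ht.2 (h.out g k t e)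

theorem LS.stab_lt (h : LS V D Y q) {w : V} (hw : w ≠ 1) : Y ⊓ stabilizer X w < Y := by
  refine lt_of_le_of_ne inf_le_left fun e => ?_
  have m : w ∈ fx V (Y : Set X) := fun g hg => (e.ge hg).2
  have d1 := h.dvd (fx V (Y : Set X)) fun x u hu g hg => by
    rw [← inv_smul_eq_iff, ← mul_smul, ← mul_smul]
    exact hu _ (h.nY.conj_mem' g hg x)
  have d2 := h.dvd ⊤ fun _ _ _ => trivial
  have e2 := (fx V (Y : Set X)).card_mul_index
  have hs := h.small
  rw [card_top] at d2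
  rw [← e2] at d2 hs
  rcases one_of_mul d1 d2 (e2 ▸ Nat.card_pos) hs with k | k
  · rw [card_eq_one] at k
    exact hw (mem_bot.1 (k ▸ m))
  · rw [index_eq_one] at k
    obtain ⟨g, hg, g1, -⟩ := h.bad
    exact g1 (h.faith g fun v => (k.ge (mem_top v) : v ∈ fx V (Y : Set X)) g hg)

theorem LS.phi [Fact q.Prime] (h : LS V D Y q) : ∃ B : Subgroup X, B ≤ Y ∧
    (∀ g ∈ B, g ≠ 1 → ∀ v : V, g • v = v → v = 1) ∧
    (∀ a ∈ Y, ∀ b ∈ Y, a⁻¹ * (b * a * b⁻¹) ∈ B) ∧ ∀ a ∈ Y, a ^ q ∈ B := by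
  have := h.nY
  refine ⟨(frattini Y).map Y.subtype, map_subtype_le _, h.min _ inferInstance
    (lt_of_le_of_ne (map_subtype_le _) fun e => ?_), fun a ha b hb => ?_, fun a ha => ?_⟩
  · have e2 : frattini Y = ⊤ := by
      apply map_injective Y.subtype_injective
      rw [e, ← MonoidHom.range_eq_map, range_subtype]
    have e3 := frattini_nongenerating (K := (⊥ : Subgroup Y)) (by rw [e2, bot_sup_eq])
    obtain ⟨g, hg, g1, -⟩ := h.bad
    exact g1 (congrArg Subtype.val (mem_bot.1 (e3.ge (mem_top (⟨g, hg⟩ : Y)))))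
  · refine ⟨⁅(⟨a, ha⟩ : Y)⁻¹, (⟨b, hb⟩ : Y)⁆, Grp.PFrattini.commutator_le_frattini h.pg
      (commutator_mem_commutator (mem_top _) (mem_top _)), ?_⟩
    simp [commutatorElement_def, mul_assoc]
  · exact ⟨_, Grp.PFrattini.pow_mem_frattini h.pg ⟨a, ha⟩, rfl⟩

end Cfsg.Agent.DrG
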