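import Cfsg.Agent.DrG.Defs

/-! The regular Sylow subgroup (for S3550, S5732). -/

set_option autoImplicit false
set_option linter.unusedSectionVars false

namespace Cfsg.Agent.DrG

open Subgroup MulAction Cfsg.Agent.PLocal.Amb

variable {G : Type*} [Group G] [Finite G] {Ω : Type*} [MulAction G Ω] [Finite Ω] {D : Subgroup G}

theorem ncard_diff (H D : Subgroup G) :
    {x | x ∈ H ∧ x ∉ D}.ncard * D.relIndex H + Nat.card H = Nat.card H * D.relIndex H := by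
  have h1 := Set.ncard_sdiff_add_ncard_of_subset (s := ((D ⊓ H : Subgroup G) : Set G)) (t := H)
    (fun _ h => h.2)
  have h2 : ((H : Set G) \ (D ⊓ H : Subgroup G)) = {x | x ∈ H ∧ x ∉ D} :=
    Set.ext fun x => ⟨fun h => ⟨h.1, fun k => h.2 ⟨k, h.1⟩⟩, fun h => ⟨h.1, fun k => h.2 k.1⟩⟩
  have h3 := (D.subgroupOf H).card_mul_index
  rw [← inf_subgroupOf_right, Nat.card_congr (subgroupOfEquivOfLe inf_le_right).toEquiv,
    inf_subgroupOf_right] at h3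
  rw [h2, ← Nat.card_coe_set_eq (H : Set G), ← Nat.card_coe_set_eq ((D ⊓ H : Subgroup G) : Set G)] at h1
  change _ + Nat.card (D ⊓ H : Subgroup G) = Nat.card H at h1
  change _ * D.relIndex H = _ at h3
  rw [← h1, add_mul, h3, h1]

theorem ncard_orb (U : Subgroup G) (δ : Ω) :
    {ω | ∃ u ∈ U, u • δ = ω}.ncard = (stabilizer G δ).relIndex U := by
  have : {ω | ∃ u ∈ U, u • δ = ω} = orbit U δ :=
    Set.ext fun ω => ⟨fun ⟨u, hu, e⟩ => ⟨⟨u, hu⟩, e⟩, fun ⟨u, e⟩ => ⟨u, u.2, e⟩⟩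
  rw [this, ← index_stabilizer]
  rfl

/-- The elements of `X \ D` with fixed point in the orbit of `ω`. -/
theorem Ex.count (h : Ex Ω D) (X : Subgroup G) (ω : Ω) :
    {x | x ∈ X ∧ x ∉ D ∧ ∃ y ∈ X, x • y • ω = y • ω}.ncard * D.relIndex (X ⊓ stabilizer G ω) +
      Nat.card X = Nat.card X * D.relIndex (X ⊓ stabilizer G ω) := by
  classical
  have := h.normal
  have c : ∀ y ∈ X, {x | x ∈ X ⊓ stabilizer G (y • ω) ∧ x ∉ D}.ncard =
      {x | x ∈ X ⊓ stabilizer G ω ∧ x ∉ D}.ncard := fun y hy => by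
    symm
    refine Set.ncard_congr (fun x _ => y * x * y⁻¹) (fun x hx => ⟨mem_inf.2 ⟨mul_mem (mul_mem hy hx.1.1)
      (inv_mem hy), ?_⟩, fun k => hx.2 ?_⟩) (fun a b _ _ e => by simpa using e)
      fun x hx => ⟨y⁻¹ * x * y, ⟨mem_inf.2 ⟨mul_mem (mul_mem (inv_mem hy) hx.1.1) hy, ?_⟩,
        fun k => hx.2 ?_⟩, by group⟩
    · change _ • _ = _
      rw [mul_smul, mul_smul, inv_smul_smul, show x • ω = ω from hx.1.2]
    · simpa [mul_assoc] using this.conj_mem _ k y⁻¹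
    · change _ • _ = _
      rw [mul_smul, mul_smul, show x • y • ω = y • ω from hx.1.2, inv_smul_smul]
    · simpa [mul_assoc] using this.conj_mem _ k y
  have e : {x | x ∈ X ∧ x ∉ D ∧ ∃ y ∈ X, x • y • ω = y • ω}.ncard =
      {β | ∃ u ∈ X, u • ω = β}.ncard * {x | x ∈ X ⊓ stabilizer G ω ∧ x ∉ D}.ncard := by
    rw [Set.ncard_eq_toFinset_card _ (Set.toFinite _),
      Set.ncard_eq_toFinset_card {β | ∃ u ∈ X, u • ω = β} (Set.toFinite _),
      ← smul_eq_mul, ← Finset.sum_const, ← Finset.sum_congr rfl (f := fun β =>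
        (Set.toFinite {x | x ∈ X ⊓ stabilizer G β ∧ x ∉ D}).toFinset.card), ← Finset.card_biUnion]
    · congr 1
      ext x
      simp only [Set.Finite.mem_toFinset, Finset.mem_biUnion, Set.mem_ofPred_eq]
      exact ⟨fun ⟨a, b, y, hy, e⟩ => ⟨_, ⟨y, hy, rfl⟩, ⟨a, e⟩, b⟩,
        fun ⟨_, ⟨y, hy, rfl⟩, ⟨a, e⟩, b⟩ => ⟨a, b, y, hy, e⟩⟩
    · intro a _ b _ ne
      refine Finset.disjoint_left.2 fun x ha hb => ne ?_
      rw [Set.Finite.mem_toFinset] at ha hb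
      exact (h.one x ha.2).unique ha.1.2 hb.1.2
    · intro β hβ
      obtain ⟨y, hy, rfl⟩ := (Set.Finite.mem_toFinset _).1 hβ
      rw [← c y hy, Set.ncard_eq_toFinset_card _ (Set.toFinite _)]
  have k := ((stabilizer G ω).subgroupOf X).index_mul_card
  rw [← inf_subgroupOf_left, Nat.card_congr (subgroupOfEquivOfLe inf_le_left).toEquiv,
    inf_subgroupOf_left] at k
  change (stabilizer G ω).relIndex X * _ = _ at k
  rw [e, ncard_orb, ← k, mul_assoc, ← mul_add, ncard_diff, mul_assoc]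

theorem Ex.exists_not (h : Ex Ω D) {X : Subgroup G} (hX : X ⊔ D = ⊤) : ∃ x ∈ X, x ∉ D := by
  by_contra! k
  exact h.ne (hX ▸ (sup_eq_right.2 k).symm)

theorem frat [D.Normal] {r : ℕ} [Fact r.Prime] {T L : Subgroup G} (h : IsSyl r T (D ⊓ L))
    (hL : L ⊔ D = ⊤) : L ⊓ 𝐍[T] ⊔ D = ⊤ :=
  eq_top_iff.2 (hL.ge.trans (sup_le ((h.frattini_sup inf_le_right (le_normalizer_inf
    (le_top.trans (normalizer_eq_top D).ge) le_normalizer)).ge.trans
    (sup_le (inf_le_left.trans le_sup_right) le_sup_left)) le_sup_right))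

theorem cov_mono {X Y : Subgroup G} (h : X ⊔ D = ⊤) (k : X ≤ Y) : Y ⊔ D = ⊤ :=
  eq_top_iff.2 (h.ge.trans (sup_le_sup_right k D))

theorem Ex.stab_cov (h : Ex Ω D) (δ : Ω) : stabilizer G δ ⊔ D = ⊤ := eq_top_iff.2 fun g _ => by
  obtain ⟨d, hd, e⟩ := h.trans δ (g • δ)
  rw [← mul_inv_cancel_left d g]
  exact mul_mem (mem_sup_right hd) (mem_sup_left (by rw [mem_stabilizer_iff, mul_smul, ← e, inv_smul_smul]))

theorem relIndex_of_tr {U : Subgroup G} {δ : Ω} (h : ∀ ω, ∃ u ∈ U, u • δ = ω) :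
    (stabilizer G δ).relIndex U = Nat.card Ω := by
  rw [← ncard_orb, Set.eq_univ_of_forall (s := {ω | ∃ u ∈ U, u • δ = ω}) h, Set.ncard_univ]

theorem Ex.dvd_orb (h : Ex Ω D) {N U : Subgroup G} {δ : Ω} (hN : N ⊓ stabilizer G δ ⊔ D = ⊤)
    (hU : N ≤ 𝐍[U]) : D.index ∣ (stabilizer G δ).relIndex U - 1 := by
  have := h.normal
  rw [← ncard_orb, ← Set.ncard_sdiff_singleton_of_mem (a := δ) (s := {ω | ∃ u ∈ U, u • δ = ω})
    ⟨1, one_mem _, one_smul _ _⟩]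
  refine dvd_ncard hN (· • ·) (one_smul _) mul_smul _ ?_ fun g hg t ht e => ?_
  · rintro g hg _ ⟨⟨u, hu, rfl⟩, ne⟩
    have e : g⁻¹ • δ = δ := inv_mem (mem_inf.1 hg).2
    refine ⟨⟨_, conj_mem_of_mem_normalizer (hU hg.1) hu, by rw [mul_smul, mul_smul, e]⟩, fun k => ne ?_⟩
    rw [Set.mem_singleton_iff] at k ⊢
    rw [← inv_smul_smul g (u • δ), k, e]
  · by_contra k
    exact ht.2 ((h.one g k).unique e hg.2)

theorem Ex.dvd_card (h : Ex Ω D) (δ : Ω) : D.index ∣ Nat.card Ω - 1 := by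
  have := h.normal
  rw [← relIndex_of_tr (h.trans δ)]
  exact h.dvd_orb (N := ⊤) (by rw [top_inf_eq, h.stab_cov]) (normalizer_eq_top D).ge

theorem Ex.tr_of (h : Ex Ω D) {N U : Subgroup G} {δ : Ω} (hN : N ⊓ stabilizer G δ ⊔ D = ⊤)
    (hU : N ≤ 𝐍[U]) (hd : (stabilizer G δ).relIndex U ∣ Nat.card Ω) (hn : ¬ U ≤ stabilizer G δ) :
    ∀ ω, ∃ u ∈ U, u • δ = ω := by
  obtain ⟨b, hb⟩ := hd
  rcases one_of_mul (h.dvd_orb hN hU) (hb ▸ h.dvd_card δ) (hb ▸ (zero_lt_two.trans_le h.two))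
    (hb ▸ h.small) with e | e
  · exact absurd (relIndex_eq_one.1 e) hn
  · rw [e, mul_one, ← ncard_orb, ← Set.ncard_univ] at hb
    exact fun ω => (Set.eq_of_subset_of_ncard_le (Set.subset_univ _) hb.le).ge (Set.mem_univ ω)

/-- Proof.  `m = D.index ≥ 2`, `E = X ⊓ D`, `|X| = m |E|` (`relIndex_of_cov`).  Count the pairs `(x, ω)`, `x ∈ X \ D`, `x • ω = ω`:
there are `|X| - |E|` of them (`h.one`).  For `ω` put `j ω = D.relIndex (X ⊓ stabilizer G ω)`; `j` is constant on `X`-orbits, and an `X`-orbit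
`O ∋ ω` contributes `|O| (|X_ω| - |E_ω|) = |X| - |X| / j`, which is `0` (`j = 1`) or `≥ |X| / 2`.
Cheap version without summing over all orbits: pick `x₀ ∈ X \ D` (exists as `D ≠ ⊤`) with fixed point `δ`, `j = j δ ≥ 2`.  If some `x ∈ X \ D`
has its fixed point `ω` outside the `X`-orbit of `δ`, the two orbits give two DISJOINT subsets of `X \ D` (the elements whose unique fixed point
lies in the orbit), each of size `≥ |X| / 2`, but `|X \ D| < |X|`.  So `X \ D` is the disjoint union over `ω ∈ X • δ` of `X_ω \ D`, so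
`|X| - |X|/m = |X| - |X|/j`, `j = m`, i.e. `D.relIndex X_δ = D.index`, so `X_δ ⊔ D = ⊤` (`relIndex_sup_right`, `relIndex_mul_index`). -/
theorem Ex.exists_cov (h : Ex Ω D) {X : Subgroup G} (hX : X ⊔ D = ⊤) :
    ∃ δ : Ω, X ⊓ stabilizer G δ ⊔ D = ⊤ ∧ ∀ x ∈ X, x ∉ D → ∀ ω : Ω, x • ω = ω → ∃ y ∈ X, y • δ = ω := by
  have := h.normal
  have big : ∀ x ∈ X, x ∉ D → ∀ ω : Ω, x • ω = ω →
      Nat.card X ≤ 2 * {x | x ∈ X ∧ x ∉ D ∧ ∃ y ∈ X, x • y • ω = y • ω}.ncard := fun x hx k ω e => by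
    have c := h.count X ω
    have h0 : D.relIndex (X ⊓ stabilizer G ω) ≠ 0 := index_ne_zero_of_finite
    have h1 : D.relIndex (X ⊓ stabilizer G ω) ≠ 1 := fun l => k (relIndex_eq_one.1 l ⟨hx, e⟩)
    obtain ⟨j, hj⟩ : ∃ j, D.relIndex (X ⊓ stabilizer G ω) = j + 2 := ⟨_, (Nat.sub_add_cancel (by omega)).symm⟩
    rw [hj] at c
    nlinarith
  obtain ⟨x₀, hx₀, k₀⟩ := h.exists_not hX
  obtain ⟨δ, e₀, -⟩ := h.one x₀ k₀
  have c := ncard_diff X D
  rw [relIndex_of_cov hX] at c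
  have p : 0 < Nat.card X := Nat.card_pos
  have lt : {x | x ∈ X ∧ x ∉ D}.ncard < Nat.card X := by
    by_contra! l
    have := Nat.mul_le_mul_right D.index l
    omega
  have orb : ∀ x ∈ X, x ∉ D → ∀ ω : Ω, x • ω = ω → ∃ y ∈ X, y • δ = ω := fun x hx k ω e => by
    by_contra l
    have b1 := big x hx k ω e
    have b2 := big x₀ hx₀ k₀ δ e₀
    have := Set.ncard_le_ncard (t := {x | x ∈ X ∧ x ∉ D}) (Set.union_subset
      (s := {x | x ∈ X ∧ x ∉ D ∧ ∃ y ∈ X, x • y • ω = y • ω})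
      (t := {x | x ∈ X ∧ x ∉ D ∧ ∃ y ∈ X, x • y • δ = y • δ})
      (fun _ a => ⟨a.1, a.2.1⟩) fun _ a => ⟨a.1, a.2.1⟩)
    rw [Set.ncard_union_eq (Set.disjoint_left.2 (by
      rintro g ⟨_, a, y, hy, e1⟩ ⟨_, _, z, hz, e2⟩
      exact l ⟨y⁻¹ * z, mul_mem (inv_mem hy) hz, by
        rw [mul_smul, (h.one g a).unique e2 e1, inv_smul_smul]⟩))] at this
    omega
  refine ⟨δ, ?_, orb⟩
  have d := h.count X δ
  have q : {x | x ∈ X ∧ x ∉ D ∧ ∃ y ∈ X, x • y • δ = y • δ} = {x | x ∈ X ∧ x ∉ D} :=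
    Set.ext fun x => ⟨fun a => ⟨a.1, a.2.1⟩, fun a => by
      obtain ⟨ω, e, -⟩ := h.one x a.2
      obtain ⟨y, hy, rfl⟩ := orb x a.1 a.2 ω e
      exact ⟨a.1, a.2, y, hy, e⟩⟩
  rw [q] at d
  obtain ⟨t, ht⟩ := Nat.exists_eq_add_of_lt lt
  have j : D.relIndex (X ⊓ stabilizer G δ) = D.index :=
    Nat.eq_of_mul_eq_mul_left (Nat.succ_pos t) (by rw [ht] at c d; nlinarith)
  have := relIndex_mul_index (le_sup_right : D ≤ X ⊓ stabilizer G δ ⊔ D)
  rw [relIndex_sup_right, j] at this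
  exact index_eq_one.1 ((mul_eq_left₀ index_ne_zero_of_finite).1 this)

/-- Proof.  `n = |Ω| ≥ 2`, `m = D.index`.  (0) For every point `δ` and every `N ≤ G_δ` with `N ⊔ D = ⊤` and every `N`-invariant `Γ ∋ δ`:
`m ∣ |Γ| - 1` (`dvd_ncard` for `U = Γ \ {δ}`, `h.one`).  `G_α ⊔ D = ⊤` as `D` is transitive; so `m ∣ n - 1`, `m` is prime to `n`.
`|D| = n |D_δ|` for all `δ`.
(1) `r ∣ n` prime, `α` a point, `R` a Sylow `r`-subgroup of `K = D ⊓ G_α` (`exists_isSyl`).  Frattini (`IsSyl.frattini_sup`, `K ⊴ G_α`):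
`X₁ = G_α ⊓ N(R)` covers (`X₁ ⊔ D = ⊤`).  `U` a Sylow `r`-subgroup of `N(R) ⊓ D` containing `R`; Frattini in `N(R)`: `X₂ = N(R) ⊓ N(U)` covers.
`exists_cov` for `X₂` gives `δ` with `X₂ ⊓ G_δ` covering; some `x ∈ X₂ ⊓ G_δ` is outside `D`.  `exists_cov` for `N(R)` gives `δ'` such that both `δ`
(fixed by `x`) and `α` (fixed by an element of `X₁ \ D`) are in the `N(R)`-orbit of `δ'`; so `δ = y • α`, `y ∈ N(R)`, and `R` fixes `δ`.
`R` is Sylow in `D ⊓ G_δ` (conjugate by `y`), so `U ⊓ G_δ = R`.  `U ≠ R`: `r ∣ n`, so `R` is not Sylow in `D` (`not_dvd_relIndex`), so not in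
`D ⊓ N(R)` (`isSyl_of_isSyl_normalizer`).  The orbit `Γ = U • δ` has size `a = [U : R] = r ^ c > 1`, is `X₂ ⊓ G_δ`-invariant, so `m ∣ a - 1`.
`a ∣ n`: `|U| ∣ |D| = n |K|` with `|K| = |R| k`, `r ∤ k`.  `n = a b`, `one_of_mul` gives `b = 1`: `U` is transitive, `R = U_δ ⊴ U` fixes every point,
`R = ⊥`.  So `V = U` is regular, `r ∤ |D ⊓ G_δ|`, `|G_δ| = m |D ⊓ G_δ|` is prime to `r`.
(2) `V` is abelian: `Z = V ⊓ C(V) ≠ ⊥` is normalized by `N = N(V) ⊓ G_δ` (covers), the orbit `Z • δ` has `|Z|` points, `m ∣ |Z| - 1`,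
`n = |Z| [V : Z]`, `one_of_mul` gives `Z = V`. -/
theorem Ex.exists_reg (h : Ex Ω D) : ∃ (V : Subgroup G) (α : Ω), Reg D V α := by
  have := h.normal
  have two := h.two
  obtain ⟨r, hr, hrn⟩ := Nat.exists_prime_and_dvd (n := Nat.card Ω) (by omega)
  have := Fact.mk hr
  obtain ⟨α⟩ : Nonempty Ω := (Nat.card_pos_iff.1 (by omega)).1
  obtain ⟨R, hR⟩ := exists_isSyl r (D ⊓ stabilizer G α)
  have c1 := frat hR (h.stab_cov α)
  have c2 := cov_mono c1 inf_le_right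
  obtain ⟨U, hU, hRU⟩ := exists_isSyl_ge hR.pgrp (le_inf (hR.le.trans inf_le_left) le_normalizer)
  obtain ⟨δ, c3, -⟩ := h.exists_cov (frat hU c2)
  obtain ⟨x, hx, kx⟩ := h.exists_not c3
  obtain ⟨x₁, hx₁, kx₁⟩ := h.exists_not c1
  obtain ⟨δ', -, o⟩ := h.exists_cov c2
  obtain ⟨y₁, hy₁, e₁⟩ := o x₁ hx₁.2 kx₁ α hx₁.1
  obtain ⟨y₂, hy₂, e₂⟩ := o x hx.1.1 kx δ hx.2
  have hR' : IsSyl r R (D ⊓ stabilizer G δ) := by
    have := hR.cj (y₂ * y₁⁻¹)
    rwa [cj_of_mem_normalizer (mul_mem hy₂ (inv_mem hy₁)), cj_inf, cj_of_normal,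
      ← stabilizer_smul_eq_stabilizer_map_conj, mul_smul, ← e₁, inv_smul_smul, e₂] at this
  have UD : U ≤ D := hU.le.trans inf_le_left
  have hi : stabilizer G δ ⊓ U = R := hR'.eq (hU.pgrp.to_le inf_le_right)
    (le_inf (hR'.le.trans inf_le_right) hRU) (le_inf (inf_le_right.trans UD) inf_le_left)
  have i1 : R.relIndex (D ⊓ stabilizer G δ) * Nat.card Ω = R.relIndex D := by
    rw [← relIndex_of_tr (h.trans δ), ← inf_relIndex_left D (stabilizer G δ),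
      relIndex_mul_relIndex _ _ _ hR'.le inf_le_left]
  have hn : ¬ U ≤ stabilizer G δ := fun l => by
    rw [inf_eq_right.2 l] at hi
    subst hi
    exact (isSyl_of_isSyl_normalizer hU).not_dvd_relIndex (i1 ▸ hrn.mul_left _)
  obtain ⟨k, hk⟩ := IsPGroup.iff_card.1 hU.pgrp
  have c4 := cov_mono c3 (inf_le_inf_right _ inf_le_right)
  have tr := h.tr_of c4 le_rfl (by
    rw [← inf_relIndex_right, hi]
    refine (((hr.coprime_iff_not_dvd.2 hR'.not_dvd_relIndex).pow_left k).coprime_dvd_left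
      (hk ▸ relIndex_dvd_card R U)).dvd_of_dvd_mul_left ?_
    rw [i1, ← relIndex_mul_relIndex _ _ _ hRU UD]
    exact dvd_mul_right _ _) hn
  have hb : R = ⊥ := eq_bot_iff.2 fun g hg => h.faith g fun ω => by
    obtain ⟨u, hu, rfl⟩ := tr ω
    have e : (u⁻¹ * g * u) • δ = δ := (hR'.le (inv_conj_mem_of_mem_normalizer (hU.le hu).2 hg)).2
    rw [mul_smul, mul_smul, inv_smul_eq_iff] at e
    exact e
  subst hb
  have free : ∀ v ∈ U, v • δ = δ → v = 1 := fun v hv e => mem_bot.1 (hi.le ⟨e, hv⟩)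
  refine ⟨U, δ, UD, fun a ha b hb => ?_, tr, free, ⟨r, hr, hU.pgrp⟩, ?_, c4⟩
  · obtain ⟨z, hz, e⟩ := h.tr_of (U := U ⊓ 𝐂[U]) c4
      (le_normalizer_inf le_rfl (normalizer_le_normalizer_centralizer U))
      ((relIndex_dvd_card _ _).trans ((card_dvd_of_le inf_le_left).trans (by
        rw [← relIndex_of_tr tr, ← inf_relIndex_right, hi, relIndex_bot_left])))
      (fun l => inf_centralizer_ne_bot hU.pgrp hU.pgrp le_normalizer (fun e => hn (e ▸ bot_le))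
        (eq_bot_iff.2 fun g hg => free g hg.1 (l hg))) (b • δ)
    rw [← inv_mul_eq_one.1 (free _ (mul_mem (inv_mem (mem_inf.1 hz).1) hb)
      (by rw [mul_smul, ← e, inv_smul_smul]))]
    exact hz.2 a ha
  · rw [hk]
    refine (hr.coprime_iff_not_dvd.2 fun l => ?_).pow_left k
    have q := (D.subgroupOf (stabilizer G δ)).card_mul_index
    rw [← inf_subgroupOf_right, Nat.card_congr (subgroupOfEquivOfLe inf_le_right).toEquiv,
      inf_subgroupOf_right] at q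
    change _ * D.relIndex _ = _ at q
    rw [← q, relIndex_of_cov (h.stab_cov δ)] at l
    refine ((Nat.Prime.dvd_mul hr).1 l).elim (hR'.eq_bot_iff.1 rfl) fun l => hr.one_lt.ne' ?_
    have := Nat.dvd_sub hrn (l.trans (h.dvd_card δ))
    rwa [Nat.sub_sub_self (by omega), Nat.dvd_one] at this

end Cfsg.Agent.DrG
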