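import Cfsg.Agent.DrG.Lin
import Cfsg.Agent.DrG.Syl
import Cfsg.Agent.DrG.Fin
import Cfsg.Agent.Perm.Derangement

/-! The subgroup generated by the derangements has index at most `√n - 1` unless the group is Frobenius. -/

set_option autoImplicit false
set_option linter.unusedSectionVars false

namespace Cfsg.Agent.DrG

open Subgroup MulAction Cfsg.Agent.PLocal.Amb

variable {G : Type*} [Group G] [Finite G] {Ω : Type*} [MulAction G Ω] [Finite Ω] {D V : Subgroup G} {α : Ω}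

theorem Reg.hf (h : Ex Ω D) (hV : Reg D V α) :
    ∀ x ∈ 𝐍[V], x • α = α → x ≠ 1 → ∀ v ∈ V, x * v = v * x → v = 1 := by
  intro x hx xa x1 v hv e
  have := h.normal
  letI : CommGroup V := { V.toGroup with mul_comm := fun a b => Subtype.ext (hV.comm _ a.2 _ b.2) }
  letI : MulDistribMulAction (𝐍[V] ⊓ stabilizer G α : Subgroup G) V :=
    { smul := fun y u => ⟨y * u * (y : G)⁻¹, (mem_normalizer_iff.1 y.2.1 u).1 u.2⟩
      one_smul := fun u => Subtype.ext (show (1 : G) * u * 1⁻¹ = u by group)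
      mul_smul := fun a b u => Subtype.ext (show (a * b : G) * u * (a * b : G)⁻¹ =
        a * (b * u * (b : G)⁻¹) * (a : G)⁻¹ by group)
      smul_mul := fun a u w => Subtype.ext (show (a : G) * (u * w) * (a : G)⁻¹ =
        a * u * (a : G)⁻¹ * (a * w * (a : G)⁻¹) by group)
      smul_one := fun a => Subtype.ext (show (a : G) * 1 * (a : G)⁻¹ = 1 by group) }
  have fix : ∀ (y : (𝐍[V] ⊓ stabilizer G α : Subgroup G)) (u : V), y • u = u →
      (y : G) • (u : G) • α = (u : G) • α := fun y u k => by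
    have k1 : (y : G) * u * (y : G)⁻¹ = u := congrArg Subtype.val k
    have k2 : (y : G) • α = α := y.2.2
    rw [← mul_smul, mul_inv_eq_iff_eq_mul.1 k1, mul_smul, k2]
  have := lin (V := V) (D := D.subgroupOf (𝐍[V] ⊓ stabilizer G α)) (fun y hy => Subtype.ext (h.faith _ fun ω => ?_))
    (fun y hy u k => Subtype.ext (hV.free _ u.2 ((h.one _ hy).unique (fix y u k) y.2.2))) ?_
    (x := ⟨x, hx, xa⟩) (fun k => x1 (congrArg Subtype.val k)) (v := ⟨v, hv⟩)
    (Subtype.ext (mul_inv_eq_iff_eq_mul.2 e))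
  · exact congrArg Subtype.val this
  · obtain ⟨u, hu, rfl⟩ := hV.tr ω
    exact fix y ⟨u, hu⟩ (hy _)
  · rw [← relIndex, relIndex_of_cov hV.cov]
    refine lt_of_le_of_lt (Nat.card_le_card_of_injective (fun u : V => (u : G) • α) fun a b k => ?_) h.small
    refine Subtype.ext (inv_mul_eq_one.1 (hV.free _ (mul_mem (inv_mem a.2) b.2) ?_))
    rw [mul_smul, inv_smul_eq_iff]
    exact k.symm

theorem Reg.normal (h : Ex Ω D) (hV : Reg D V α) : V.Normal := by
  rw [← normalizer_eq_top_iff, eq_top_iff]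
  intro g _
  obtain ⟨v, hv, e⟩ := hV.tr (g • α)
  have : v⁻¹ * g ∈ 𝐍[V] := hV.frob h (hV.hf h) (by rw [mem_stabilizer_iff, mul_smul, ← e, inv_smul_smul])
  simpa using mul_mem (le_normalizer hv) this

theorem Reg.fix_le (h : Ex Ω D) (hV : Reg D V α) {g : G} (g1 : g ≠ 1) : Nat.card (fixedBy Ω g) ≤ 1 := by
  have hn := hV.normal h
  refine Finite.card_le_one_iff_subsingleton.2 ⟨fun ⟨a, ha⟩ ⟨b, hb⟩ => Subtype.ext ?_⟩
  obtain ⟨u, hu, rfl⟩ := hV.tr a
  obtain ⟨v, hv, e⟩ := hV.tr (u⁻¹ • b)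
  rw [mem_fixedBy] at ha hb
  have k1 : (u⁻¹ * g * u) • α = α := by rw [mul_smul, mul_smul, ha, inv_smul_smul]
  have k2 := hV.free _ (mul_mem (inv_mem hv) (hn.conj_mem v hv (u⁻¹ * g * u))) (by
    rw [mul_smul, mul_smul, mul_smul, inv_smul_eq_iff.2 k1.symm, e, mul_smul, mul_smul, smul_inv_smul, hb,
      ← e, inv_smul_smul])
  have k3 := hV.hf h _ ((normalizer_eq_top V).ge trivial) k1 (fun k => g1 (by rw [mul_assoc, inv_mul_eq_one] at k; simpa using k)) v hv
    (mul_inv_eq_iff_eq_mul.1 (inv_mul_eq_one.1 k2).symm)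
  rw [k3, one_smul, eq_inv_smul_iff] at e
  exact e

theorem ex_or [FaithfulSMul G Ω] (htr : IsPretransitive G Ω) (h4 : 4 ≤ Nat.card Ω) :
    Ex Ω (Perm.Der.derSub G Ω) ∨ ((Perm.Der.derSub G Ω).index : ℝ) ≤ Real.sqrt (Nat.card Ω) - 1 := by
  by_cases k : ((Perm.Der.derSub G Ω).index + 1) ^ 2 ≤ Nat.card Ω
  · right
    rw [le_sub_iff_add_le]
    apply Real.le_sqrt_of_sq_le
    exact_mod_cast k
  refine .inl ⟨Perm.Der.derSub_normal, fun g hg => ?_, fun a b => ?_,
    fun g hg => eq_of_smul_eq_smul (α := Ω) fun ω => by rw [hg, one_smul], fun e => k ?_, by omega, not_le.1 k⟩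
  · obtain ⟨a, ha⟩ := Nat.card_eq_one_iff_exists.1 ((Perm.Der.derSub_main htr).2 g hg)
    exact ⟨a, a.2, fun b hb => congrArg Subtype.val (ha ⟨b, hb⟩)⟩
  · obtain ⟨d, hd⟩ := (Perm.Der.derSub_main htr).1.exists_smul_eq a b
    exact ⟨d, d.2, hd⟩
  · rwa [e, index_top]

theorem der_comm (h3 : Nat.card Ω ≤ 3) {g k : G} (hg : ∀ ω : Ω, g • ω ≠ ω) (hk : ∀ ω : Ω, k • ω ≠ ω) (ω : Ω) :
    (g * k) • ω = (k * g) • ω := by
  have key : ∀ n ≤ 3, ∀ a b : Equiv.Perm (Fin n), (∀ i, a i ≠ i) → (∀ i, b i ≠ i) → ∀ i, a (b i) = b (a i) := by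
    intro n hn
    interval_cases n <;> decide
  have e := Finite.equivFin Ω
  have := key _ h3 (e.permCongr (toPerm g)) (e.permCongr (toPerm k))
    (fun i c => hg (e.symm i) (e.eq_symm_apply.2 c)) (fun i c => hk (e.symm i) (e.eq_symm_apply.2 c)) (e ω)
  simpa [mul_smul] using this

end Cfsg.Agent.DrG
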